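import Groth.Agent.Lib.NormalTori14.Split

/-!
The greatest split subtorus over a connected normal base is greatest over every open.
-/

universe u

open CategoryTheory MonoidalCategory CartesianMonoidalCategory MonObj GrpObj AlgebraicGeometry
open CategoryTheory.Limits

set_option backward.isDefEq.respectTransparency false

namespace GrothLib.NormalTori14

open GrothLib.DiagGrp GrothLib.SubTorus14

/-- Base change of diagonalisable groups. -/
theorem exists_iso_bcDS {S W : Scheme.{u}} (f : W ⟶ S) (M : Type) [AddCommGroup M] :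
    Nonempty (Grp.mk (Red.DS W M) ≅ Grp.mk (Red.bc f (Red.DS S M))) := by
  haveI := isMonHom_dsBc f M
  haveI := isIso_dsBc f M
  haveI : IsMonHom (asIso (dsBc f M)).hom := ‹IsMonHom (dsBc f M)›
  exact ⟨Grp.mkIso' (asIso (dsBc f M))⟩

/-- Factorisation through a monomorphism is local on the source. -/
theorem exists_factor_of_cover {X Y Z : Scheme.{u}} (cov : X.OpenCover) (m : Y ⟶ Z) [Mono m] (f : X ⟶ Z)
    (h : ∀ i, ∃ g, g ≫ m = cov.f i ≫ f) : ∃ d : X ⟶ Y, d ≫ m = f := by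
  choose g hg using h
  refine ⟨cov.glueMorphisms g fun x y => ?_, ?_⟩
  · rw [← cancel_mono m, Category.assoc, Category.assoc, hg, hg]
    exact (Category.assoc _ _ _).symm.trans ((congrArg (· ≫ f) pullback.condition).trans (Category.assoc _ _ _))
  · refine Scheme.Cover.hom_ext cov _ _ fun i => ?_
    rw [← Category.assoc, Scheme.Cover.ι_glueMorphisms]
    exact hg i

variable {S : Scheme.{u}} [ConnectedSpace S] [IsLocallyNoetherian S]

theorem factor_open_aux (hnorm : ∀ x : S, IsDomain (S.presheaf.stalk x) ∧ IsIntegrallyClosed (S.presheaf.stalk x))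
    {T T₀ : Over S} [GrpObj T] [GrpObj T₀] (hT : SGA3x.IsMultTypeFT T) (j₀ : T₀ ⟶ T)
    (hmax : ∀ (T' : Over S) [GrpObj T'] (j' : T' ⟶ T) [IsMonHom j'] [Mono j'] (r' : ℕ),
      Red.IsSplitTorusWith (Fin r' → ℤ) T' → ∃ g : T' ⟶ T₀, g ≫ j₀ = j')
    (U : S.Opens) (hU : (U : Set S).Nonempty) (T' : Over (U : Scheme.{u})) [GrpObj T'] (j' : T' ⟶ Red.bc U.ι T)
    [IsMonHom j'] [Mono j'] {D : Over S} [GrpObj D] (hD : Red.IsTorus D) {r' : ℕ}
    (hs : Red.IsSplitTorusWith (Fin r' → ℤ) D) (e' : Grp.mk T' ≅ Grp.mk (Red.bc U.ι D)) :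
    ∃ g : T' ⟶ Red.bc U.ι T₀, g ≫ (Over.pullback U.ι).map j₀ = j' := by
  let b : Red.bc U.ι D ⟶ T' := e'.inv.hom.hom
  haveI : IsMonHom b := e'.inv.hom.isMonHom_hom
  haveI : IsIso b := inferInstanceAs (IsIso ((Grp.forget _).map e'.inv))
  obtain ⟨v, hv, hvm, hva⟩ := exists_extend_open hnorm hT U hU hD (b ≫ j')
  haveI := hv
  haveI := hvm
  obtain ⟨g, hg⟩ := hmax D v r' hs
  refine ⟨inv b ≫ (Over.pullback U.ι).map g, ?_⟩
  rw [Category.assoc, ← Functor.map_comp, hg, hva, IsIso.inv_hom_id_assoc]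

theorem factor_open (hnorm : ∀ x : S, IsDomain (S.presheaf.stalk x) ∧ IsIntegrallyClosed (S.presheaf.stalk x))
    {T T₀ : Over S} [GrpObj T] [GrpObj T₀] (hT : SGA3x.IsMultTypeFT T) (j₀ : T₀ ⟶ T)
    (hmax : ∀ (T' : Over S) [GrpObj T'] (j' : T' ⟶ T) [IsMonHom j'] [Mono j'] (r' : ℕ),
      Red.IsSplitTorusWith (Fin r' → ℤ) T' → ∃ g : T' ⟶ T₀, g ≫ j₀ = j')
    (U : S.Opens) (T' : Over (U : Scheme.{u})) [GrpObj T'] (j' : T' ⟶ Red.bc U.ι T) [IsMonHom j'] [Mono j']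
    (r' : ℕ) (hT' : Red.IsSplitTorusWith (Fin r' → ℤ) T') :
    ∃ g : T' ⟶ Red.bc U.ι T₀, g ≫ (Over.pullback U.ι).map j₀ = j' := by
  by_cases hU : (U : Set S).Nonempty
  · obtain ⟨e⟩ := hT'
    obtain ⟨eB⟩ := exists_iso_bcDS U.ι (Fin r' → ℤ)
    exact factor_open_aux hnorm hT j₀ hmax U hU T' j' (isTorus_DS S (AddEquiv.refl (Fin r' → ℤ)))
      ⟨Iso.refl _⟩ (e ≪≫ eB)
  · haveI : IsEmpty (U : Scheme.{u}) := ⟨fun x => hU ⟨x.1, x.2⟩⟩
    haveI : IsEmpty T'.left := ⟨fun x => IsEmpty.false (T'.hom.base x)⟩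
    exact ⟨Over.homMk (isInitialOfIsEmpty.to _) (isInitialOfIsEmpty.hom_ext _ _),
      Over.OverMorphism.ext (isInitialOfIsEmpty.hom_ext _ _)⟩

/-- Locally split subtori lie in the greatest split subtorus. -/
theorem factor_locally_split
    (hnorm : ∀ x : S, IsDomain (S.presheaf.stalk x) ∧ IsIntegrallyClosed (S.presheaf.stalk x))
    {T T₀ T₁ : Over S} [GrpObj T] [GrpObj T₀] [GrpObj T₁] (hT : SGA3x.IsMultTypeFT T) (j₀ : T₀ ⟶ T) [Mono j₀]
    (hmax : ∀ (T' : Over S) [GrpObj T'] (j' : T' ⟶ T) [IsMonHom j'] [Mono j'] (r' : ℕ),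
      Red.IsSplitTorusWith (Fin r' → ℤ) T' → ∃ g : T' ⟶ T₀, g ≫ j₀ = j')
    (j₁ : T₁ ⟶ T) [IsMonHom j₁] [Mono j₁]
    (hT₁ : ∀ s : S, ∃ U : S.Opens, s ∈ U ∧ ∃ r : ℕ, Red.IsSplitTorusWith (Fin r → ℤ) (Red.bc U.ι T₁)) :
    ∃ g : T₁ ⟶ T₀, g ≫ j₀ = j₁ := by
  choose U hsU r hr using hT₁
  have hg : ∀ s, ∃ g : Red.bc (U s).ι T₁ ⟶ Red.bc (U s).ι T₀,
      g ≫ (Over.pullback (U s).ι).map j₀ = (Over.pullback (U s).ι).map j₁ := fun s => by
    haveI : (Over.pullback (U s).ι).IsRightAdjoint := (Over.mapPullbackAdj (U s).ι).isRightAdjoint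
    exact factor_open hnorm hT j₀ hmax (U s) (Red.bc (U s).ι T₁) ((Over.pullback (U s).ι).map j₁) (r s) (hr s)
  choose g hg using hg
  let cov := (S.openCoverOfIsOpenCover U (TopologicalSpace.IsOpenCover.mk
    (eq_top_iff.mpr fun x _ => TopologicalSpace.Opens.mem_iSup.mpr ⟨x, hsU x⟩))).pullback₁ T₁.hom
  have hfst : ∀ (s : S), ((g s).left ≫ pullback.fst T₀.hom (U s).ι) ≫ j₀.left =
      pullback.fst T₁.hom (U s).ι ≫ j₁.left := fun s => by
    have h := congrArg (fun t => t ≫ pullback.fst T.hom (U s).ι) (congrArg Over.Hom.left (hg s))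
    refine Eq.trans ?_ (h.trans (pullback.lift_fst _ _ _))
    rw [Over.comp_left, Category.assoc, Category.assoc]
    exact congrArg ((g s).left ≫ ·) (pullback.lift_fst _ _ _).symm
  haveI : Mono j₀.left := inferInstance
  obtain ⟨d, hd⟩ := exists_factor_of_cover cov j₀.left j₁.left fun s => ⟨_, hfst s⟩
  exact ⟨Over.homMk d (by rw [← Over.w j₀, ← Category.assoc, hd, Over.w j₁]), Over.OverMorphism.ext hd⟩

end GrothLib.NormalTori14
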