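import Groth.Agent.Lib.MultExt14.Hom
import Groth.Agent.Lib.TorusNorm25.Torus
import Groth.Agent.Lib.SubTorus14.Split
import Groth.Agent.Lib.QuotTorus14.Split
import Groth.Agent.Lib.SubDesc14.Central

/-!
Homomorphisms from tori to groups of multiplicative type over a normal base are determined by, and extend from,
the generic fibre.
-/

universe u

open CategoryTheory MonoidalCategory CartesianMonoidalCategory MonObj GrpObj AlgebraicGeometry
open CategoryTheory.Limits

set_option backward.isDefEq.respectTransparency false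

namespace GrothLib.NormalTori14

open GrothLib.DiagGrp GrothLib.SubTorus14

variable {S : Scheme.{u}}

theorem isTorus_DS (S : Scheme.{u}) {M : Type} [AddCommGroup M] {r : ℕ} (φ : (Fin r → ℤ) ≃+ M) :
    Red.IsTorus (Red.DS S M) := by
  refine ⟨S, 𝟙 S, inferInstance, inferInstance, fun V hV => ⟨V, hV.isCompact, by simp⟩, fun s => ⟨⊤, trivial, r, ?_⟩⟩
  haveI := isMonHom_dsBc ((⊤ : S.Opens).ι ≫ 𝟙 S) M
  haveI := isIso_dsBc ((⊤ : S.Opens).ι ≫ 𝟙 S) M
  haveI : IsMonHom (asIso (dsBc ((⊤ : S.Opens).ι ≫ 𝟙 S) M)).hom := ‹IsMonHom (dsBc _ M)›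
  obtain ⟨e⟩ := QuotTorus14.exists_iso_DS ((⊤ : S.Opens) : Scheme.{u}) φ
  exact ⟨(Grp.mkIso' (asIso (dsBc ((⊤ : S.Opens).ι ≫ 𝟙 S) M))).symm ≪≫ e⟩

/-- Base change along a composite is natural. -/
theorem compIso_natural {S' P : Scheme.{u}} (π : S' ⟶ S) {G H : Over S} [GrpObj G] [GrpObj H] (a : H ⟶ G)
    (q : P ⟶ S) (p : P ⟶ S') (hp : q = p ≫ π) :
    (Over.pullback q).map a ≫ (SubDesc14.compIso π G q p hp).hom =
      (SubDesc14.compIso π H q p hp).hom ≫ (Over.pullback p).map ((Over.pullback π).map a) := by
  rw [← cancel_mono (SubDesc14.compIso π G q p hp).inv]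
  apply Over.OverMorphism.ext
  apply pullback.hom_ext
  · simp only [Over.comp_left, Category.assoc, SubDesc14.compIso_inv_fst]
    rw [SubDesc14.compIso_hom_fst]
    refine (pullback.lift_fst _ _ _).trans ?_
    rw [← SubDesc14.compIso_hom_fst π H q p hp, Category.assoc, Category.assoc]
    congr 1
    refine Eq.trans ?_ (pullback.lift_fst_assoc _ _ _ _).symm
    rw [Category.assoc]
    exact congrArg (_ ≫ ·) (pullback.lift_fst _ _ _).symm
  · exact (Over.w _).trans (Over.w _).symm

/-- Homomorphisms from a torus to a group of multiplicative type over a normal base extend uniquely from the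
generic fibre. -/
theorem existsUnique_extend [IsIntegral S] [IsLocallyNoetherian S]
    (hnorm : ∀ x : S, IsIntegrallyClosed (S.presheaf.stalk x)) {H T : Over S} [GrpObj H] [GrpObj T]
    (hH : Red.IsTorus H) (hT : SGA3x.IsMultTypeFT T)
    (uK : Red.bc (S.fromSpecStalk (genericPoint S)) H ⟶ Red.bc (S.fromSpecStalk (genericPoint S)) T) [IsMonHom uK] :
    ∃! u : H ⟶ T, IsMonHom u ∧ (Over.pullback (S.fromSpecStalk (genericPoint S))).map u = uK := by
  let j := S.fromSpecStalk (genericPoint S)
  let j' := S.fromSpecResidueField (genericPoint S)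
  haveI hres : IsIso (S.residue (genericPoint S)) := by
    have : Function.Bijective (S.residue (genericPoint S)).hom :=
      ⟨(show S.functionField →+* S.residueField (genericPoint S) from (S.residue (genericPoint S)).hom).injective,
        S.residue_surjective (genericPoint S)⟩
    exact (ConcreteCategory.isIso_iff_bijective (S.residue (genericPoint S))).2 this
  let θ := Spec.map (S.residue (genericPoint S))
  haveI : IsIso θ := inferInstance
  have hθ : j' = θ ≫ j := rfl
  haveI := TorusNorm25.smooth_of_isTorus hH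
  have hconn : ∀ s : S, ConnectedSpace ↥(pullback H.hom (S.fromSpecResidueField s)) := fun s => by
    haveI := isConnected_iff_connectedSpace.mp (TorusNorm25.isConnected_fibre_of_isTorus hH s)
    exact (H.hom.fiberHomeo s).symm.surjective.connectedSpace (H.hom.fiberHomeo s).symm.continuous
  haveI : IsAffineHom T.hom := EssFree.isAffineHom_multTypeFT T hT
  haveI : IsReduced H.left := RedSmooth.isReduced_of_smooth H.hom
  haveI := SubDesc14.isMonHom_compIso_inv j T j' θ hθ
  haveI : IsMonHom (SubDesc14.compIso j H j' θ hθ).hom := (bcGrpComp H j θ j' hθ).hom.hom.isMonHom_hom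
  let uη : Red.bc j' H ⟶ Red.bc j' T := (SubDesc14.compIso j H j' θ hθ).hom ≫ SubDesc14.pullSub j T uK j' θ hθ
  haveI := SubDesc14.isMonHom_pullSub j T uK j' θ hθ
  haveI : IsMonHom uη := inferInstance
  have key : ∀ a : H ⟶ T, (Over.pullback j).map a = uK ↔ (Over.pullback j').map a = uη := by
    intro a
    constructor
    · intro h
      rw [← cancel_mono (SubDesc14.compIso j T j' θ hθ).hom, compIso_natural, h]
      simp only [uη, SubDesc14.pullSub, Category.assoc, Iso.inv_hom_id, Category.comp_id]
    · intro h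
      apply (Over.pullback θ).map_injective
      rw [← cancel_epi (SubDesc14.compIso j H j' θ hθ).hom, ← compIso_natural, h]
      simp only [uη, SubDesc14.pullSub, Category.assoc, Iso.inv_hom_id, Category.comp_id]
  obtain ⟨u, hu, hu'⟩ := MultExt14.exists_extend_hom hnorm H T hconn hT uη
  refine ⟨u, ⟨hu, (key u).2 hu'⟩, fun v hv => ?_⟩
  exact MultExt14.eq_of_generic (((key v).1 hv.2).trans hu'.symm)

end GrothLib.NormalTori14
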