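import Mathlib.AlgebraicGeometry.Noetherian
import Mathlib.AlgebraicGeometry.Properties
import Mathlib.AlgebraicGeometry.Stalk

/-!
A connected locally Noetherian scheme whose local rings are domains is integral.
-/

universe u

open CategoryTheory AlgebraicGeometry TopologicalSpace

namespace GrothLib.NormalTori14

theorem isIntegral_of_connected {X : Scheme.{u}} [IsLocallyNoetherian X] [ConnectedSpace X]
    (hX : ∀ x : X, IsDomain (X.presheaf.stalk x)) : IsIntegral X := by
  have : IsReduced X := by
    have : ∀ x : X, _root_.IsReduced (X.presheaf.stalk x) := fun x => by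
      have := hX x
      infer_instance
    exact isReduced_of_isReduced_stalk X
  -- irreducible closed sets through a point lie in one component
  have huniq : ∀ x : X, ∀ Z ∈ irreducibleComponents (X : Type u), x ∈ Z → ∀ W ∈ irreducibleComponents (X : Type u),
      x ∈ W → Z = W := by
    intro x Z hZ hxZ W hW hxW
    obtain ⟨c₁, hc₁⟩ := QuasiSober.sober hZ.1 (isClosed_of_mem_irreducibleComponents Z hZ)
    obtain ⟨c₂, hc₂⟩ := QuasiSober.sober hW.1 (isClosed_of_mem_irreducibleComponents W hW)
    have := hX x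
    let f := X.fromSpecStalk x
    obtain ⟨P, hP⟩ := (Scheme.range_fromSpecStalk (x := x)).ge (hc₁.specializes hxZ)
    obtain ⟨Q, hQ⟩ := (Scheme.range_fromSpecStalk (x := x)).ge (hc₂.specializes hxW)
    let z : PrimeSpectrum (X.presheaf.stalk x) := ⟨⊥, Ideal.isPrime_bot⟩
    have hzP : f z ⤳ c₁ := hP ▸ ((PrimeSpectrum.le_iff_specializes z P).1 bot_le).map f.continuous
    have hzQ : f z ⤳ c₂ := hQ ▸ ((PrimeSpectrum.le_iff_specializes z Q).1 bot_le).map f.continuous
    have e₁ : Z = closure {f z} := hZ.eq_of_le isIrreducible_singleton.closure (by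
      rw [← hc₁.def]; exact hzP.closure_subset)
    have e₂ : W = closure {f z} := hW.eq_of_le isIrreducible_singleton.closure (by
      rw [← hc₂.def]; exact hzQ.closure_subset)
    rw [e₁, e₂]
  obtain ⟨x₀⟩ := (inferInstance : Nonempty X)
  let Z := irreducibleComponent x₀
  have hZ : Z ∈ irreducibleComponents (X : Type u) := irreducibleComponent_mem_irreducibleComponents x₀
  have hopen : IsOpen Z := by
    rw [isOpen_iff_forall_mem_open]
    intro x hx
    obtain ⟨V, hV, hxV, -⟩ := exists_isAffineOpen_mem_and_subset (TopologicalSpace.Opens.mem_top x)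
    haveI : IsNoetherianRing Γ(X, V) := IsLocallyNoetherian.component_noetherian ⟨V, hV⟩
    haveI : IsNoetherian (Spec Γ(X, V)) := inferInstance
    let f := hV.fromSpec
    have hfin : (irreducibleComponents (Spec Γ(X, V) : Type u)).Finite :=
      NoetherianSpace.finite_irreducibleComponents
    let bad : Set (Spec Γ(X, V)) :=
      ⋃ C ∈ {C ∈ irreducibleComponents (Spec Γ(X, V) : Type u) | ¬ f.base '' C ⊆ Z}, C
    have hbad : IsClosed bad := (hfin.subset fun C hC => hC.1).isClosed_biUnion fun C hC =>
      isClosed_of_mem_irreducibleComponents C hC.1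
    refine ⟨f.base '' badᶜ, ?_, f.isOpenEmbedding.isOpenMap _ hbad.isOpen_compl, ?_⟩
    · rintro _ ⟨y, hy, rfl⟩
      by_contra h
      exact hy (Set.mem_biUnion (x := irreducibleComponent y)
        ⟨irreducibleComponent_mem_irreducibleComponents y, fun hs => h (hs ⟨y, mem_irreducibleComponent, rfl⟩)⟩
        mem_irreducibleComponent)
    · obtain ⟨y, rfl⟩ : x ∈ Set.range f.base := by rw [hV.range_fromSpec]; exact hxV
      refine ⟨y, fun hy => ?_, rfl⟩
      obtain ⟨C, ⟨hC, hCZ⟩, hyC⟩ := Set.mem_iUnion₂.1 hy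
      obtain ⟨W, hW, hCW⟩ := exists_preirreducible (f.base '' C)
        (hC.1.image _ f.continuous.continuousOn).2
      have hWi : IsIrreducible W := ⟨⟨f.base y, hCW.1 ⟨y, hyC, rfl⟩⟩, hW⟩
      have hWc : W ∈ irreducibleComponents (X : Type u) :=
        ⟨hWi, fun T hT hWT => (hCW.2 T hT.2 hWT).le⟩
      exact hCZ (hCW.1.trans (huniq _ _ hWc (hCW.1 ⟨y, hyC, rfl⟩) _ hZ hx).le)
  have huniv : Z = Set.univ :=
    IsClopen.eq_univ ⟨isClosed_irreducibleComponent, hopen⟩ ⟨x₀, mem_irreducibleComponent⟩
  have : IrreducibleSpace X := irreducibleSpace_def X |>.2 ((show Z = ⊤ from huniv) ▸ hZ.1)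
  exact isIntegral_of_irreducibleSpace_of_isReduced X

end GrothLib.NormalTori14
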