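import Groth.Agent.Lib.NormalTori14.Extend
import Groth.Agent.Lib.NormalTori14.Integral
import Groth.Agent.Lib.DiagGrp.FibreMono

/-!
Split subtori over an open of a connected normal base extend.
-/

universe u

open CategoryTheory MonoidalCategory CartesianMonoidalCategory MonObj GrpObj AlgebraicGeometry
open CategoryTheory.Limits

set_option backward.isDefEq.respectTransparency false

namespace GrothLib.NormalTori14

open GrothLib.DiagGrp GrothLib.SubTorus14

variable {S : Scheme.{u}}

/-- Morphisms from a flat reduced scheme to a separated one agree if they agree over a set of generalisations. -/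
theorem eq_of_dominant {Y T : Over S} [Flat Y.hom] [IsReduced Y.left] [IsSeparated T.hom] {a b : Y ⟶ T}
    {P : Scheme.{u}} (p : P ⟶ S) (hp : ∀ s : S, ∃ s' ∈ Set.range p.base, s' ⤳ s)
    (h : (Over.pullback p).map a = (Over.pullback p).map b) : a = b := by
  haveI : IsDominant (pullback.fst Y.hom p) := ⟨by
    refine dense_iff_closure_eq.2 (Set.eq_univ_of_forall fun y => ?_)
    obtain ⟨s', hs', hsp⟩ := hp (Y.hom y)
    obtain ⟨y', hy', he⟩ := Flat.generalizingMap Y.hom hsp
    refine closure_mono (Set.singleton_subset_iff.2 ?_) (specializes_iff_mem_closure.1 hy')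
    rw [Scheme.Pullback.range_fst]
    show Y.hom y' ∈ Set.range p.base
    rw [he]
    exact hs'⟩
  refine Over.OverMorphism.ext (ext_of_isDominant_of_isSeparated T.hom ((Over.w a).trans (Over.w b).symm)
    (pullback.fst Y.hom p) ?_)
  have := congrArg (fun f => f.left ≫ pullback.fst T.hom p) h
  simpa using this

/-- A split subtorus over a nonempty open of a connected normal base extends to a split subtorus. -/
theorem exists_extend_open [ConnectedSpace S] [IsLocallyNoetherian S]
    (hnorm : ∀ x : S, IsDomain (S.presheaf.stalk x) ∧ IsIntegrallyClosed (S.presheaf.stalk x))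
    {T : Over S} [GrpObj T] (hT : SGA3x.IsMultTypeFT T) (U : S.Opens) (hU : (U : Set S).Nonempty) {D : Over S}
    [GrpObj D] (hD : Red.IsTorus D) (a : Red.bc U.ι D ⟶ Red.bc U.ι T) [IsMonHom a] [Mono a] :
    ∃ u : D ⟶ T, IsMonHom u ∧ Mono u ∧ (Over.pullback U.ι).map u = a := by
  haveI : IsIntegral S := isIntegral_of_connected fun x => (hnorm x).1
  let j := S.fromSpecStalk (genericPoint S)
  have hgen : genericPoint S ∈ (U : Set S) :=
    ((genericPoint_spec S).mem_open_set_iff U.isOpen).2 (by simpa using hU)
  have hr : Set.range j.base ⊆ Set.range U.ι.base := by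
    rw [Scheme.range_fromSpecStalk, U.range_ι]
    intro y hy
    have hy' : y ⤳ genericPoint S := hy
    exact hy'.mem_open U.isOpen hgen
  let jU := IsOpenImmersion.lift U.ι j hr
  have hjU : j = jU ≫ U.ι := (IsOpenImmersion.lift_fac _ _ _).symm
  haveI : IsMonHom (SubDesc14.compIso U.ι D j jU hjU).hom := (bcGrpComp D U.ι jU j hjU).hom.hom.isMonHom_hom
  haveI := SubDesc14.isMonHom_pullSub U.ι T a j jU hjU
  let uK : Red.bc j D ⟶ Red.bc j T := (SubDesc14.compIso U.ι D j jU hjU).hom ≫ SubDesc14.pullSub U.ι T a j jU hjU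
  haveI : IsMonHom uK := inferInstance
  obtain ⟨u, ⟨hu, huK⟩, -⟩ := existsUnique_extend (fun x => (hnorm x).2) hD hT uK
  haveI := hu
  haveI := TorusNorm25.smooth_of_isTorus hD
  haveI : IsAffineHom T.hom := EssFree.isAffineHom_multTypeFT T hT
  haveI : Flat (Red.bc U.ι D).hom := inferInstanceAs (Flat (pullback.snd D.hom U.ι))
  haveI : Smooth (Red.bc U.ι D).hom := inferInstanceAs (Smooth (pullback.snd D.hom U.ι))
  haveI : IsReduced (U : Scheme.{u}) := isReduced_of_isOpenImmersion U.ι
  haveI : IsReduced (Red.bc U.ι D).left := RedSmooth.isReduced_of_smooth (Red.bc U.ι D).hom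
  haveI : IsSeparated (Red.bc U.ι T).hom := inferInstanceAs (IsSeparated (pullback.snd T.hom U.ι))
  have hua : (Over.pullback U.ι).map u = a := by
    refine eq_of_dominant jU (fun s => ?_) ?_
    · obtain ⟨z, hz⟩ : genericPoint S ∈ Set.range j.base := by
        rw [Scheme.range_fromSpecStalk]
        exact specializes_rfl
      refine ⟨jU.base z, ⟨z, rfl⟩, ?_⟩
      rw [U.ι.isOpenEmbedding.isInducing.specializes_iff.symm, ← Scheme.Hom.comp_apply, ← hjU, hz]
      exact (genericPoint_spec S).specializes (Set.mem_univ _)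
    · rw [← cancel_epi (SubDesc14.compIso U.ι D j jU hjU).hom, ← compIso_natural, huK]
      simp only [uK, SubDesc14.pullSub, Category.assoc, Iso.inv_hom_id, Category.comp_id]
  refine ⟨u, hu, ?_, hua⟩
  haveI : LocallyOfFiniteType D.hom := inferInstance
  haveI := isClosedImmersion_one T
  haveI := kernel_lfp u (Or.inl ‹IsLocallyNoetherian S›)
  obtain ⟨V, hVcl, hViff, hVm⟩ := exists_clopen_mono u (hasChartsFpqc_of_isTorus_any hD)
  have hgV : genericPoint S ∈ V := by
    rw [hViff]
    let F := S.fromSpecResidueField (genericPoint S)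
    have hFr : Set.range F.base ⊆ Set.range U.ι.base := by
      rw [Scheme.range_fromSpecResidueField, U.range_ι]
      exact Set.singleton_subset_iff.2 hgen
    let FU := IsOpenImmersion.lift U.ι F hFr
    have hFU : F = FU ≫ U.ι := (IsOpenImmersion.lift_fac _ _ _).symm
    haveI : (Over.pullback FU).IsRightAdjoint := (Over.mapPullbackAdj FU).isRightAdjoint
    haveI : Mono ((Over.pullback F).map u ≫ (SubDesc14.compIso U.ι T F FU hFU).hom) := by
      rw [compIso_natural, hua]
      infer_instance
    haveI : Mono ((Over.pullback F).map u) := mono_of_mono _ (SubDesc14.compIso U.ι T F FU hFU).hom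
    infer_instance
  have htop : V = ⊤ := by
    rcases isClopen_iff.mp ⟨hVcl, V.isOpen⟩ with h | h
    · exact absurd hgV (by simp [← SetLike.mem_coe, h])
    · exact TopologicalSpace.Opens.ext h
  exact mono_of_fibres u fun s => (hViff s).1 (htop ▸ trivial)

end GrothLib.NormalTori14
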